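import Mathlib

/-!
# The rank-one commutation calculus

`P`, `M` additive parameterisations of the root groups, `T` the torus with root `a`, coroot `c`.
-/

set_option autoImplicit false
universe u v w

namespace Groth.Agent.RankOne

/-- A rank-one system of points with values in a ring. -/
structure Data (R : Type u) [CommRing R] (H : Type v) [Group H] (T : Type w) [Group T] where
  P : R → H
  M : R → H
  tor : T →* H
  a : T →* Rˣ
  c : Rˣ →* T
  P_add : ∀ x y, P (x + y) = P x * P y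
  M_add : ∀ x y, M (x + y) = M x * M y
  conjP : ∀ t x, tor t * P x * (tor t)⁻¹ = P ((a t : R) * x)
  conjM : ∀ t y, tor t * M y * (tor t)⁻¹ = M (((a t)⁻¹ : Rˣ) * y)
  a_c : ∀ z, a (c z) = z ^ 2
  F : ∀ (x y : R) (z : Rˣ), (z : R) = 1 + x * y →
    P x * M y = M (y * (z⁻¹ : Rˣ)) * tor (c z) * P (x * (z⁻¹ : Rˣ))

namespace Data

variable {R : Type u} [CommRing R] {H : Type v} [Group H] {T : Type w} [Group T] (d : Data R H T)

/-- The image of the coroot. -/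
def h : Rˣ →* H := d.tor.comp d.c

theorem P_zero : d.P 0 = 1 := by
  have := d.P_add 0 0
  rw [add_zero] at this
  exact left_eq_mul.mp this

theorem M_zero : d.M 0 = 1 := by
  have := d.M_add 0 0
  rw [add_zero] at this
  exact left_eq_mul.mp this

theorem P_neg (x : R) : d.P (-x) = (d.P x)⁻¹ :=
  eq_inv_of_mul_eq_one_left (by rw [← d.P_add, neg_add_cancel, P_zero])

theorem M_neg (x : R) : d.M (-x) = (d.M x)⁻¹ :=
  eq_inv_of_mul_eq_one_left (by rw [← d.M_add, neg_add_cancel, M_zero])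

theorem tor_P (t : T) (x : R) : d.tor t * d.P x = d.P ((d.a t : R) * x) * d.tor t := by
  rw [← d.conjP]; group

theorem tor_M (t : T) (y : R) : d.tor t * d.M y = d.M (((d.a t)⁻¹ : Rˣ) * y) * d.tor t := by
  rw [← d.conjM]; group

theorem P_tor (t : T) (x : R) : d.P x * d.tor t = d.tor t * d.P (((d.a t)⁻¹ : Rˣ) * x) := by
  rw [tor_P, ← mul_assoc, Units.mul_inv, one_mul]

theorem M_tor (t : T) (y : R) : d.M y * d.tor t = d.tor t * d.M ((d.a t : R) * y) := by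
  rw [tor_M, ← mul_assoc, Units.inv_mul, one_mul]

theorem h_P (z : Rˣ) (x : R) : d.h z * d.P x = d.P ((z : R) ^ 2 * x) * d.h z := by
  rw [h, MonoidHom.comp_apply, tor_P, d.a_c, Units.val_pow_eq_pow_val]

theorem h_M (z : Rˣ) (y : R) : d.h z * d.M y = d.M (((z⁻¹ : Rˣ) : R) ^ 2 * y) * d.h z := by
  rw [h, MonoidHom.comp_apply, tor_M, d.a_c, ← inv_pow, Units.val_pow_eq_pow_val]

theorem F' (x y : R) (z : Rˣ) (hz : (z : R) = 1 + x * y) :
    d.P x * d.M y = d.M (y * (z⁻¹ : Rˣ)) * d.h z * d.P (x * (z⁻¹ : Rˣ)) :=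
  d.F x y z hz

/-- The commutation rule with the roots exchanged. -/
theorem F_rev (x y : R) (z : Rˣ) (hz : (z : R) = 1 + x * y) :
    d.M y * d.P x = d.P (x * (z⁻¹ : Rˣ)) * (d.h z)⁻¹ * d.M (y * (z⁻¹ : Rˣ)) := by
  have := congrArg Inv.inv (d.F' (-x) (-y) z (by rw [hz, neg_mul_neg]))
  simpa only [neg_mul, P_neg, M_neg, mul_inv_rev, inv_inv, mul_assoc] using this

/-- The coroot as a product of root elements. -/
theorem h_eq_prod (z : Rˣ) :
    d.h z = d.M ((1 - (z : R)) * (z⁻¹ : Rˣ)) * d.P 1 * d.M ((z : R) - 1) * d.P (-((z⁻¹ : Rˣ) : R)) := by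
  rw [mul_assoc (d.M _) (d.P 1), d.F' 1 ((z : R) - 1) z (by ring), one_mul, P_neg, ← mul_assoc, mul_inv_cancel_right,
    ← mul_assoc, ← d.M_add, ← add_mul, sub_add_sub_cancel, sub_self, zero_mul, M_zero, one_mul]

/-- The product of two elements of the big cell. -/
theorem cell_mul_cell (x y x' y' y₂ x₂ : R) (t t' : T) (z : Rˣ) (hz : (z : R) = 1 + x * y')
    (hy : (y₂ - y) * z * (d.a t : R) = y') (hx : (x₂ - x') * z * (d.a t' : R) = x) :
    (d.M y * d.tor t * d.P x) * (d.M y' * d.tor t' * d.P x') = d.M y₂ * d.tor (t * d.c z * t') * d.P x₂ := by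
  have ey : y₂ = y + ((d.a t)⁻¹ : Rˣ) * (y' * (z⁻¹ : Rˣ)) := by
    rw [← hy, mul_right_comm (y₂ - y), Units.mul_inv_cancel_right, mul_comm, Units.mul_inv_cancel_right,
      add_sub_cancel]
  have ex : x₂ = ((d.a t')⁻¹ : Rˣ) * (x * (z⁻¹ : Rˣ)) + x' := by
    rw [← hx, mul_right_comm (x₂ - x'), Units.mul_inv_cancel_right, mul_comm, Units.mul_inv_cancel_right,
      sub_add_cancel]
  calc (d.M y * d.tor t * d.P x) * (d.M y' * d.tor t' * d.P x')
      = d.M y * d.tor t * (d.P x * d.M y') * d.tor t' * d.P x' := by group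
    _ = d.M y * (d.tor t * d.M (y' * (z⁻¹ : Rˣ))) * d.h z * (d.P (x * (z⁻¹ : Rˣ)) * d.tor t') * d.P x' := by
        rw [d.F' x y' z hz]; group
    _ = d.M y * d.M (((d.a t)⁻¹ : Rˣ) * (y' * (z⁻¹ : Rˣ))) * (d.tor t * d.h z * d.tor t') *
          (d.P (((d.a t')⁻¹ : Rˣ) * (x * (z⁻¹ : Rˣ))) * d.P x') := by rw [tor_M, P_tor]; group
    _ = _ := by rw [← d.M_add, ← d.P_add, ← ey, ← ex, map_mul, map_mul]; rfl

/-- The Weyl element of a unit. -/
def w (x : Rˣ) : H := d.P x * d.M (-((x⁻¹ : Rˣ) : R)) * d.P x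

theorem w_mk (x : Rˣ) (x' : R) (hx : x' * (x : R) = -1) : x' = -((x⁻¹ : Rˣ) : R) := by
  rw [← neg_one_mul, Units.eq_mul_inv_iff_mul_eq, hx]

theorem w_scale (z x : Rˣ) : d.w (z * x) = d.h z * d.w x := by
  set Z : R := (z : R) with hZ
  set X : R := (x : R) with hX
  set Zi : R := ((z⁻¹ : Rˣ) : R) with hZi
  set Xi : R := ((x⁻¹ : Rˣ) : R) with hXi
  have e1 : Z * Zi = 1 := by simp [hZ, hZi]
  have e2 : X * Xi = 1 := by simp [hX, hXi]
  have key : d.P (Z * X * (Z - 1)) * d.M (-(Zi * Zi * Xi)) * d.h z * d.P (X * (1 - Z)) = d.M (-(Zi * Xi)) := by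
    rw [d.F' (Z * X * (Z - 1)) (-(Zi * Zi * Xi)) z⁻¹ (by
      rw [← hZi]
      linear_combination (Z * Zi * X * Xi - X * Xi * Zi + X * Xi) * e1 + (1 - Zi) * e2), inv_inv, ← hZ]
    have e3 : -(Zi * Zi * Xi) * Z = -(Zi * Xi) := by linear_combination -(Zi * Xi) * e1
    have e5 : d.P (Z * X * (Z - 1) * Z) * d.h z = d.h z * d.P (X * (Z - 1)) := by
      rw [h_P]; congr 2; rw [← hZ]; ring
    rw [e3, mul_assoc (d.M _ * d.h z⁻¹), e5, ← mul_assoc, mul_assoc (d.M _), ← map_mul, inv_mul_cancel, map_one,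
      mul_one, mul_assoc, ← d.P_add, show X * (Z - 1) + X * (1 - Z) = 0 by ring, P_zero, mul_one]
  have exp : d.h z * d.w x = d.P (Z * X) * (d.P (Z * X * (Z - 1)) * d.M (-(Zi * Zi * Xi)) * d.h z * d.P (X * (1 - Z))) *
      d.P (Z * X) := by
    rw [w, ← hX, ← hXi, ← mul_assoc, ← mul_assoc, h_P, mul_assoc (d.P _) (d.h z), h_M, ← hZ, ← hZi]
    rw [← mul_assoc (d.P _) (d.M _), ← mul_assoc, ← mul_assoc, ← mul_assoc, ← d.P_add, mul_assoc _ (d.P (X * (1 - Z))), ← d.P_add]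
    rw [show Z * X + Z * X * (Z - 1) = Z ^ 2 * X by ring, show X * (1 - Z) + Z * X = X by ring,
      show Zi ^ 2 * -Xi = -(Zi * Zi * Xi) by ring]
  rw [exp, key, w, Units.val_mul, mul_inv, Units.val_mul, ← hZ, ← hX, ← hZi, ← hXi]

theorem tor_w (t : T) (x : Rˣ) : d.tor t * d.w x * (d.tor t)⁻¹ = d.w (d.a t * x) := by
  rw [w, w, Units.val_mul, mul_inv, Units.val_mul, neg_mul_eq_mul_neg, ← d.conjP, ← d.conjM]
  group

theorem w_conj (t : T) (x : Rˣ) : d.w x * d.tor t * (d.w x)⁻¹ = (d.h (d.a t))⁻¹ * d.tor t := by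
  have : d.tor t * d.w x = d.h (d.a t) * d.w x * d.tor t := by
    rw [← w_scale, ← tor_w]; group
  rw [mul_inv_eq_iff_eq_mul, mul_assoc, this]
  group

theorem w_h (z x : Rˣ) : d.w x * (d.h z)⁻¹ = d.h z * d.w x := by
  have := d.w_conj (d.c z) x
  rw [d.a_c, map_pow] at this
  change d.w x * d.h z * (d.w x)⁻¹ = (d.h z ^ 2)⁻¹ * d.h z at this
  rw [pow_two, mul_inv_rev, inv_mul_cancel_right, mul_inv_eq_iff_eq_mul] at this
  rw [mul_inv_eq_iff_eq_mul, mul_assoc, this, mul_inv_cancel_left]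

theorem w_neg (x : Rˣ) : d.w (-x) = (d.w x)⁻¹ := by
  rw [w, w, Units.val_neg, inv_neg, Units.val_neg, neg_neg, P_neg, M_neg]
  group

theorem w_sq (x : Rˣ) : d.w x ^ 2 = d.h (-1) := by
  have h1 := d.w_scale (-1) x
  rw [neg_one_mul, w_neg, eq_comm, mul_eq_one_iff_eq_inv.symm, mul_assoc, ← pow_two] at h1
  rw [eq_inv_of_mul_eq_one_right h1, ← map_inv]
  simp

theorem w_mul_w (x y : Rˣ) : d.w x * d.w y = d.h (-(x / y)) := by
  rw [show d.w y = d.h (y / x) * d.w x by rw [← w_scale, div_mul_cancel], ← mul_assoc,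
    show d.w x * d.h (y / x) = d.h (x / y) * d.w x by
      have := d.w_h (x / y) x
      rwa [← map_inv, inv_div] at this, mul_assoc, ← pow_two, w_sq, ← map_mul]
  congr 1
  simp

/-- Conjugation of `P` by a Weyl element, where `1 + t/x` is a unit. -/
theorem w_P_of_unit (x z : Rˣ) (t : R) (hz : (z : R) = 1 + t * (x⁻¹ : Rˣ)) :
    d.w x * d.P t * (d.w x)⁻¹ = d.M (-(t * ((x⁻¹ : Rˣ) : R) ^ 2)) := by
  set X : R := (x : R) with hX
  set Xi : R := ((x⁻¹ : Rˣ) : R) with hXi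
  set Z : R := (z : R) with hZ
  set Zi : R := ((z⁻¹ : Rˣ) : R) with hZi
  have e1 : Z * Zi = 1 := by simp [hZ, hZi]
  have e2 : X * Xi = 1 := by simp [hX, hXi]
  have hw : d.w x * d.P t * (d.w x)⁻¹ = d.P X * (d.M (-Xi) * (d.P t * d.M Xi)) * d.P (-X) := by
    have hc : d.P X * d.P t * (d.P X)⁻¹ = d.P t := by
      rw [← P_neg, ← d.P_add, ← d.P_add]; congr 1; ring
    calc d.w x * d.P t * (d.w x)⁻¹
        = d.P X * (d.M (-Xi) * ((d.P X * d.P t * (d.P X)⁻¹) * (d.M (-Xi))⁻¹)) * (d.P X)⁻¹ := by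
          rw [w, ← hX, ← hXi]; group
      _ = _ := by rw [hc, ← P_neg, ← M_neg, neg_neg]
  rw [hw, d.F' t Xi z hz, ← hZi]
  have e3 : d.M (-Xi) * (d.M (Xi * Zi) * d.h z * d.P (t * Zi)) = d.M (-(t * Xi ^ 2 * Zi)) * d.h z * d.P (t * Zi) := by
    rw [← mul_assoc, ← mul_assoc, ← d.M_add]
    congr 3
    linear_combination Xi * e1 - Xi * Zi * hz
  rw [e3, ← mul_assoc, ← mul_assoc, d.F' X (-(t * Xi ^ 2 * Zi)) z⁻¹ (by
    rw [← hZi]; linear_combination e1 - Zi * hz + t * Xi * Zi * e2), inv_inv, ← hZ]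
  have e4 : -(t * Xi ^ 2 * Zi) * Z = -(t * Xi ^ 2) := by linear_combination -(t * Xi ^ 2) * e1
  have e5 : d.P (X * Z) * d.h z = d.h z * d.P (X * Zi) := by
    rw [h_P]; congr 2; rw [← hZ]; linear_combination -(X * Z) * e1
  rw [e4, mul_assoc (d.M _ * d.h z⁻¹), e5, ← mul_assoc, mul_assoc (d.M _), ← map_mul, inv_mul_cancel, map_one, mul_one,
    mul_assoc (d.M _), ← d.P_add, mul_assoc, ← d.P_add,
    show X * Zi + t * Zi + -X = 0 by linear_combination X * e1 - X * Zi * hz - t * Zi * e2, P_zero, mul_one]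

/-- `t = x` is a sum of two parameters to which `w_P_of_unit` applies once `X² - X - 1` has a root. -/
theorem w_P_self (x : Rˣ) (s : R) (hs : s ^ 2 - s - 1 = 0) :
    d.w x * d.P x * (d.w x)⁻¹ = d.M (-((x⁻¹ : Rˣ) : R)) := by
  set X : R := (x : R) with hX
  set Xi : R := ((x⁻¹ : Rˣ) : R) with hXi
  have e2 : X * Xi = 1 := by simp [hX, hXi]
  let z₁ : Rˣ := ⟨1 + s, 2 - s, by linear_combination -hs, by linear_combination -hs⟩
  have h1 := d.w_P_of_unit x z₁ (s * X) (by change 1 + s = _; linear_combination -s * e2)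
  have h2 := d.w_P_of_unit x z₁⁻¹ (X - s * X) (by
    change 2 - s = _; linear_combination (s - 1) * e2)
  have hsum : d.P X = d.P (s * X) * d.P (X - s * X) := by rw [← d.P_add, add_sub_cancel]
  rw [hsum, ← mul_assoc, show d.w x * d.P (s * X) * d.P (X - s * X) * (d.w x)⁻¹ =
      (d.w x * d.P (s * X) * (d.w x)⁻¹) * (d.w x * d.P (X - s * X) * (d.w x)⁻¹) by group, h1, h2, ← d.M_add]
  congr 1
  linear_combination -Xi * e2

theorem braid (x : Rˣ) (hx : d.w x * d.P x * (d.w x)⁻¹ = d.M (-((x⁻¹ : Rˣ) : R))) :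
    d.M (-((x⁻¹ : Rˣ) : R)) * d.P x * d.M (-((x⁻¹ : Rˣ) : R)) = d.w x := by
  rw [mul_inv_eq_iff_eq_mul] at hx
  rw [w] at hx ⊢
  refine mul_right_cancel (b := d.P x) ?_
  rw [hx]
  group

theorem w_P_cube (x : Rˣ) (hx : d.w x * d.P x * (d.w x)⁻¹ = d.M (-((x⁻¹ : Rˣ) : R))) : (d.w x * d.P x) ^ 3 = 1 := by
  have hb := d.braid x hx
  set A := d.P x
  set B := d.M (-((x⁻¹ : Rˣ) : R))
  set W := d.w x with hW
  have hW' : W = A * B * A := rfl
  have hsq : W * W = d.h (-1) := by rw [← pow_two, hW, w_sq]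
  have hcent : ∀ y, d.h (-1) * d.M y = d.M y * d.h (-1) := fun y => by
    rw [h_M]; simp
  calc (W * A) ^ 3 = (W * A * W⁻¹) * (W * W) * A * W * A := by rw [pow_succ, pow_two]; group
    _ = B * d.h (-1) * A * W * A := by rw [hx, hsq]
    _ = d.h (-1) * (B * A * W * A) := by rw [show B * d.h (-1) = d.h (-1) * B from (hcent _).symm]; group
    _ = d.h (-1) * ((B * A * B) * (A * B * A)) := by nth_rw 1 [← hb]; group
    _ = d.h (-1) * (W * W) := by rw [hb, ← hW']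
    _ = 1 := by rw [hsq, ← map_mul]; simp

end Data

end Groth.Agent.RankOne
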