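import Groth.Prelude.Def_GmPts
import Groth.Agent.GaGmKerLib.GaPts
import Groth.Agent.RankOneLib.Abstract
import Mathlib

/-!
# The rank-one calculus on points of group schemes
-/

set_option autoImplicit false
universe u

open CategoryTheory CategoryTheory.Limits MonoidalCategory CartesianMonoidalCategory AlgebraicGeometry
open Groth.Agent.GaPts
open scoped MonObj GrpObj

noncomputable section

namespace Groth.Agent.RankOne

variable {S : Scheme.{u}}

/-- The hypotheses of the rank-one commutation calculus. -/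
structure Setup {G T : Over S} [GrpObj G] [GrpObj T] (i : T ⟶ G) (α : T ⟶ Red.Gm S)
    (pp pm : Red.Ga S ⟶ G) (av : Red.Gm S ⟶ T) : Prop where
  mon_i : IsMonHom i
  mon_α : IsMonHom α
  mon_pp : IsMonHom pp
  mon_pm : IsMonHom pm
  mon_av : IsMonHom av
  hpp : ∀ (X : Over S) (t : X ⟶ T) (x : X ⟶ Red.Ga S), ∃ x' : X ⟶ Red.Ga S,
      x' ≫ pp = (t ≫ i) * (x ≫ pp) * (t ≫ i)⁻¹ ∧ Red.gaFn x' = Red.gmFn (t ≫ α) * Red.gaFn x
  hpm : ∀ (X : Over S) (t : X ⟶ T) (y : X ⟶ Red.Ga S), ∃ y' : X ⟶ Red.Ga S,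
      y' ≫ pm = (t ≫ i) * (y ≫ pm) * (t ≫ i)⁻¹ ∧ Red.gaFn y' * Red.gmFn (t ≫ α) = Red.gaFn y
  h2 : av ≫ α = (𝟙 (Red.Gm S)) ^ 2
  hF : ∀ (X : Over S) (x y : X ⟶ Red.Ga S), IsUnit (1 + Red.gaFn x * Red.gaFn y) →
      ∃ (x' y' : X ⟶ Red.Ga S) (z : X ⟶ Red.Gm S), Red.gmFn z = 1 + Red.gaFn x * Red.gaFn y ∧
        Red.gaFn x' * Red.gmFn z = Red.gaFn x ∧ Red.gaFn y' * Red.gmFn z = Red.gaFn y ∧
        (x ≫ pp) * (y ≫ pm) = (y' ≫ pm) * (z ≫ av ≫ i) * (x' ≫ pp)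

theorem eq_ptOf {X : Over S} (x : X ⟶ Red.Ga S) {a : Γ(X.left, ⊤)} (h : Red.gaFn x = a) : x = ptOf a :=
  gaFn_injective (h.trans (gaFn_ptOf a).symm)

theorem ptOf_add {X : Over S} (a b : Γ(X.left, ⊤)) : (ptOf (a + b) : X ⟶ Red.Ga S) = ptOf a * ptOf b :=
  gaFn_injective (by
    change Red.gaFn _ = Red.gaFn _
    rw [gaFn_mul, gaFn_ptOf, gaFn_ptOf, gaFn_ptOf])

theorem comp_ptOf {X X' : Over S} (g : X' ⟶ X) (a : Γ(X.left, ⊤)) :
    g ≫ (ptOf a : X ⟶ Red.Ga S) = ptOf (g.left.appTop a) :=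
  eq_ptOf _ (by rw [gaFn_comp, gaFn_ptOf])

theorem eq_ptOfUnit {X : Over S} (z : X ⟶ Red.Gm S) {v : (Γ(X.left, ⊤))ˣ} (h : Red.gmFn z = v) : z = GmPts.ptOfUnit v := by
  rw [← GmPts.ptOfUnit_unitOfPt z]
  congr 1
  exact Units.ext h

theorem ptOfUnit_mul {X : Over S} (v v' : (Γ(X.left, ⊤))ˣ) :
    (GmPts.ptOfUnit (v * v') : X ⟶ Red.Gm S) = GmPts.ptOfUnit v * GmPts.ptOfUnit v' := by
  refine (eq_ptOfUnit _ ?_).symm
  rw [GmPts.gmFn_mul, ← GmPts.val_unitOfPt, ← GmPts.val_unitOfPt, GmPts.unitOfPt_ptOfUnit, GmPts.unitOfPt_ptOfUnit,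
    Units.val_mul]

variable {G T : Over S} [GrpObj G] [GrpObj T] {i : T ⟶ G} {α : T ⟶ Red.Gm S}
    {pp pm : Red.Ga S ⟶ G} {av : Red.Gm S ⟶ T}

/-- The system of points with values in `X`. -/
def Setup.data (st : Setup i α pp pm av) (X : Over S) : Data Γ(X.left, ⊤) (X ⟶ G) (X ⟶ T) :=
  haveI := st.mon_i
  haveI := st.mon_α
  haveI := st.mon_pp
  haveI := st.mon_pm
  haveI := st.mon_av
  { P := fun a => ptOf a ≫ pp
    M := fun a => ptOf a ≫ pm
    tor := MonoidHom.mk' (fun t => t ≫ i) (fun a b => MonObj.mul_comp a b i)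
    a := MonoidHom.mk' (fun t => GmPts.unitOfPt (t ≫ α)) (fun a b =>
      (congrArg GmPts.unitOfPt (@MonObj.mul_comp _ _ _ _ _ _ _ _ a b α st.mon_α)).trans (GmPts.unitOfPt_mul _ _))
    c := MonoidHom.mk' (fun v => GmPts.ptOfUnit v ≫ av) (fun a b => by
      rw [ptOfUnit_mul, MonObj.mul_comp])
    P_add := fun x y => by rw [ptOf_add, MonObj.mul_comp]
    M_add := fun x y => by rw [ptOf_add, MonObj.mul_comp]
    conjP := fun t x => by
      obtain ⟨x', h1, h2⟩ := st.hpp X t (ptOf x)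
      refine h1.symm.trans ?_
      rw [eq_ptOf x' (h2.trans (congrArg _ (gaFn_ptOf x)))]
      rfl
    conjM := fun t y => by
      obtain ⟨y', h1, h2⟩ := st.hpm X t (ptOf y)
      refine h1.symm.trans ?_
      rw [gaFn_ptOf, ← GmPts.val_unitOfPt, ← Units.eq_mul_inv_iff_mul_eq, mul_comm] at h2
      rw [eq_ptOf y' h2]
      rfl
    a_c := fun z => by
      change GmPts.unitOfPt ((GmPts.ptOfUnit z ≫ av) ≫ α) = _
      rw [Category.assoc, st.h2, pow_two, MonObj.comp_mul, Category.comp_id, GmPts.unitOfPt_mul,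
        GmPts.unitOfPt_ptOfUnit, pow_two]
    F := fun x y z hz => by
      obtain ⟨x', y', z', h1, h2, h3, h4⟩ := st.hF X (ptOf x) (ptOf y) (by
        rw [gaFn_ptOf, gaFn_ptOf, ← hz]; exact z.isUnit)
      refine h4.trans ?_
      rw [gaFn_ptOf, gaFn_ptOf, ← hz] at h1
      rw [gaFn_ptOf, h1, ← Units.eq_mul_inv_iff_mul_eq] at h2 h3
      rw [eq_ptOfUnit z' h1, eq_ptOf x' h2, eq_ptOf y' h3, ← Category.assoc _ av i]
      rfl }

/-- `X² - X - 1`. -/
def goldPoly : Polynomial ℤ := Polynomial.X ^ 2 - Polynomial.X - 1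

abbrev Gold : Type u := ULift.{u} (AdjoinRoot goldPoly)

theorem goldPoly_monic : goldPoly.Monic := by unfold goldPoly; monicity!

theorem exists_goldCover (X : Over S) : ∃ (X' : Over S) (π : X' ⟶ X) (s : Γ(X'.left, ⊤)),
    Epi π ∧ s ^ 2 - s - 1 = 0 := by
  haveI : Module.Free ℤ (AdjoinRoot goldPoly) := goldPoly_monic.free_adjoinRoot
  haveI : Nontrivial (AdjoinRoot goldPoly) := AdjoinRoot.nontrivial _ (by
    have h2 : goldPoly.degree = 2 := by unfold goldPoly; compute_degree!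
    rw [h2]; decide)
  haveI : Module.Free ℤ Gold.{u} := Module.Free.of_equiv ULift.moduleEquiv.symm
  haveI : Nontrivial Gold.{u} := ULift.nontrivial
  haveI : Module.FaithfullyFlat ℤ Gold.{u} := inferInstance
  let e : ULift.{u} ℤ ≃+* ℤ := ULift.ringEquiv
  let f : ULift.{u} ℤ →+* Gold.{u} := (algebraMap ℤ Gold.{u}).comp e.toRingHom
  let q : Spec (CommRingCat.of Gold.{u}) ⟶ Spec (CommRingCat.of (ULift.{u} ℤ)) := Spec.map (CommRingCat.ofHom f)
  haveI : Flat q := (HasRingHomProperty.Spec_iff (P := @Flat)).mpr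
    (RingHom.Flat.comp (RingHom.Flat.of_bijective e.bijective) (RingHom.flat_algebraMap_iff.mpr inferInstance))
  haveI : Surjective q := ⟨by
    have hcomp := (PrimeSpectrum.comap_comp e.toRingHom (algebraMap ℤ Gold.{u}))
    change Function.Surjective (PrimeSpectrum.comap f)
    exact fun y => by
      obtain ⟨y', rfl⟩ := (PrimeSpectrum.comapEquiv e.symm).surjective y
      obtain ⟨z, rfl⟩ := PrimeSpectrum.comap_surjective_of_faithfullyFlat (A := ℤ) (B := Gold.{u}) y'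
      exact ⟨z, rfl⟩⟩
  let b : X.left ⟶ Spec (CommRingCat.of (ULift.{u} ℤ)) := Limits.IsTerminal.from specULiftZIsTerminal _
  let X' : Over S := Over.mk (pullback.fst b q ≫ X.hom)
  let π : X' ⟶ X := Over.homMk (pullback.fst b q) rfl
  haveI : Epi π.left := Flat.epi_of_flat_of_surjective (pullback.fst b q)
  refine ⟨X', π, (pullback.snd b q).appTop ((Scheme.ΓSpecIso (CommRingCat.of Gold.{u})).inv
    (ULift.up (AdjoinRoot.root goldPoly))), (Over.forget S).epi_of_epi_map (show Epi π.left from inferInstance), ?_⟩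
  have h : (ULift.up (AdjoinRoot.root goldPoly) : Gold.{u}) ^ 2 - ULift.up (AdjoinRoot.root goldPoly) - 1 = 0 := by
    refine ULift.ext _ _ ?_
    have : AdjoinRoot.mk goldPoly (Polynomial.X ^ 2 - Polynomial.X - 1) = 0 := AdjoinRoot.mk_self
    rw [map_sub, map_sub, map_pow, map_one, AdjoinRoot.mk_X] at this
    exact this
  let φ : Gold.{u} →+* Γ(X'.left, ⊤) :=
    ((Scheme.ΓSpecIso (CommRingCat.of Gold.{u})).inv ≫ (pullback.snd b q).appTop).hom
  have h' := congrArg φ h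
  simp only [map_sub, map_pow, map_one, map_zero] at h'
  exact h'

/-- Conjugation by a Weyl element exchanges the root elements. -/
theorem Setup.w_P (st : Setup i α pp pm av) (X : Over S) (x : (Γ(X.left, ⊤))ˣ) :
    (st.data X).w x * (st.data X).P x * ((st.data X).w x)⁻¹ = (st.data X).M (-((x⁻¹ : (Γ(X.left, ⊤))ˣ) : Γ(X.left, ⊤))) := by
  obtain ⟨X', π, s, hπ, hs⟩ := exists_goldCover X
  rw [← cancel_epi π]
  let v : (Γ(X'.left, ⊤))ˣ := Units.map π.left.appTop.hom.toMonoidHom x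
  have h := (st.data X').w_P_self v s hs
  simp only [Data.w, Setup.data, MonObj.comp_mul, GrpObj.comp_inv, ← Category.assoc, comp_ptOf, map_neg] at h ⊢
  exact h

theorem Setup.pp_eq (st : Setup i α pp pm av) {X : Over S} (x : X ⟶ Red.Ga S) {a : Γ(X.left, ⊤)}
    (h : Red.gaFn x = a) : x ≫ pp = (st.data X).P a := by
  rw [eq_ptOf x h]; rfl

theorem Setup.pm_eq (st : Setup i α pp pm av) {X : Over S} (x : X ⟶ Red.Ga S) {a : Γ(X.left, ⊤)}
    (h : Red.gaFn x = a) : x ≫ pm = (st.data X).M a := by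
  rw [eq_ptOf x h]; rfl

theorem Setup.gm_eq (st : Setup i α pp pm av) {X : Over S} (z : X ⟶ Red.Gm S) :
    z ≫ av ≫ i = (st.data X).h (GmPts.unitOfPt z) := by
  conv_lhs => rw [← GmPts.ptOfUnit_unitOfPt z, ← Category.assoc]
  rfl

theorem Setup.tor_eq (st : Setup i α pp pm av) {X : Over S} (t : X ⟶ T) : t ≫ i = (st.data X).tor t := rfl

theorem Setup.weyl_eq (st : Setup i α pp pm av) {X : Over S} (x x' : X ⟶ Red.Ga S)
    (hx : Red.gaFn x' * Red.gaFn x = -1) : ∃ u : (Γ(X.left, ⊤))ˣ, (u : Γ(X.left, ⊤)) = Red.gaFn x ∧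
      Red.gaFn x' = -((u⁻¹ : (Γ(X.left, ⊤))ˣ) : Γ(X.left, ⊤)) ∧
      (x ≫ pp) * (x' ≫ pm) * (x ≫ pp) = (st.data X).w u ∧
      x ≫ pp = (st.data X).P u ∧ x' ≫ pm = (st.data X).M (-((u⁻¹ : (Γ(X.left, ⊤))ˣ) : Γ(X.left, ⊤))) := by
  have hu : IsUnit (Red.gaFn x) := IsUnit.of_mul_eq_one (-Red.gaFn x') (by linear_combination -hx)
  refine ⟨hu.unit, hu.unit_spec, ?_⟩
  have h' := Data.w_mk hu.unit (Red.gaFn x') (by rw [hu.unit_spec]; exact hx)
  exact ⟨h', by rw [st.pp_eq x hu.unit_spec.symm, st.pm_eq x' h']; rfl, st.pp_eq x hu.unit_spec.symm, st.pm_eq x' h'⟩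

end Groth.Agent.RankOne
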